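import Cfsg.Agent.Lib.BigPerm.Defs
import Cfsg.Agent.Lib.BigPerm.Fi24Net.G0_0
import Cfsg.Agent.Lib.BigPerm.Fi24Net.G0_1
import Cfsg.Agent.Lib.BigPerm.Fi24Net.G1_0
import Cfsg.Agent.Lib.BigPerm.Fi24Net.G1_1
import Cfsg.Agent.Lib.BigPerm.Fi24Net.G2_0
import Cfsg.Agent.Lib.BigPerm.Fi24Net.G2_1
import Cfsg.Agent.Lib.BigPerm.Fi24Net.G3_0
import Cfsg.Agent.Lib.BigPerm.Fi24Net.G3_1
import Cfsg.Agent.Lib.BigPerm.Fi24Net.G4_0
import Cfsg.Agent.Lib.BigPerm.Fi24Net.G4_1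
import Cfsg.Agent.Lib.BigPerm.Fi24Net.G5_0
import Cfsg.Agent.Lib.BigPerm.Fi24Net.G5_1
import Cfsg.Agent.Lib.BigPerm.Fi24Net.G6_0
import Cfsg.Agent.Lib.BigPerm.Fi24Net.G6_1
import Cfsg.Agent.Lib.BigPerm.Fi24Net.G7_0
import Cfsg.Agent.Lib.BigPerm.Fi24Net.G7_1
import Cfsg.Agent.Lib.BigPerm.Fi24Net.G8_0
import Cfsg.Agent.Lib.BigPerm.Fi24Net.G8_1
import Cfsg.Agent.Lib.BigPerm.Fi24Net.G9_0
import Cfsg.Agent.Lib.BigPerm.Fi24Net.G9_1
import Cfsg.Agent.Lib.BigPerm.Fi24Net.G10_0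
import Cfsg.Agent.Lib.BigPerm.Fi24Net.G10_1
import Cfsg.Agent.Lib.BigPerm.Fi24Net.G11_0
import Cfsg.Agent.Lib.BigPerm.Fi24Net.G11_1
import Cfsg.Agent.Lib.BigPerm.Fi24Net.G12_0
import Cfsg.Agent.Lib.BigPerm.Fi24Net.G12_1
import Cfsg.Agent.Lib.BigPerm.Fi24Net.G13_0
import Cfsg.Agent.Lib.BigPerm.Fi24Net.G13_1
import Cfsg.Agent.Lib.BigPerm.Fi24Net.G14_0
import Cfsg.Agent.Lib.BigPerm.Fi24Net.G14_1

/-! Generated switching networks of the twelve generators. -/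

set_option autoImplicit false

namespace Cfsg.Lib.BigPerm.Fi24Net

/-- A generator. -/
noncomputable def g0 : List Nat :=
  [m0_0, m0_1, m0_2, m0_3, m0_4, m0_5, m0_6, m0_7, m0_8, m0_9, m0_10, m0_11, m0_12, m0_13, m0_14, m0_15, m0_16, m0_17, m0_18]

/-- A generator. -/
noncomputable def g1 : List Nat :=
  [m1_0, m1_1, m1_2, m1_3, m1_4, m1_5, m1_6, m1_7, m1_8, m1_9, m1_10, m1_11, m1_12, m1_13, m1_14, m1_15, m1_16, m1_17, m1_18]

/-- A generator. -/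
noncomputable def g2 : List Nat :=
  [m2_0, m2_1, m2_2, m2_3, m2_4, m2_5, m2_6, m2_7, m2_8, m2_9, m2_10, m2_11, m2_12, m2_13, m2_14, m2_15, m2_16, m2_17, m2_18]

/-- A generator. -/
noncomputable def g3 : List Nat :=
  [m3_0, m3_1, m3_2, m3_3, m3_4, m3_5, m3_6, m3_7, m3_8, m3_9, m3_10, m3_11, m3_12, m3_13, m3_14, m3_15, m3_16, m3_17, m3_18]

/-- A generator. -/
noncomputable def g4 : List Nat :=
  [m4_0, m4_1, m4_2, m4_3, m4_4, m4_5, m4_6, m4_7, m4_8, m4_9, m4_10, m4_11, m4_12, m4_13, m4_14, m4_15, m4_16, m4_17, m4_18]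

/-- A generator. -/
noncomputable def g5 : List Nat :=
  [m5_0, m5_1, m5_2, m5_3, m5_4, m5_5, m5_6, m5_7, m5_8, m5_9, m5_10, m5_11, m5_12, m5_13, m5_14, m5_15, m5_16, m5_17, m5_18]

/-- A generator. -/
noncomputable def g6 : List Nat :=
  [m6_0, m6_1, m6_2, m6_3, m6_4, m6_5, m6_6, m6_7, m6_8, m6_9, m6_10, m6_11, m6_12, m6_13, m6_14, m6_15, m6_16, m6_17, m6_18]

/-- A generator. -/
noncomputable def g7 : List Nat :=
  [m7_0, m7_1, m7_2, m7_3, m7_4, m7_5, m7_6, m7_7, m7_8, m7_9, m7_10, m7_11, m7_12, m7_13, m7_14, m7_15, m7_16, m7_17, m7_18]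

/-- A generator. -/
noncomputable def g8 : List Nat :=
  [m8_0, m8_1, m8_2, m8_3, m8_4, m8_5, m8_6, m8_7, m8_8, m8_9, m8_10, m8_11, m8_12, m8_13, m8_14, m8_15, m8_16, m8_17, m8_18]

/-- A generator. -/
noncomputable def g9 : List Nat :=
  [m9_0, m9_1, m9_2, m9_3, m9_4, m9_5, m9_6, m9_7, m9_8, m9_9, m9_10, m9_11, m9_12, m9_13, m9_14, m9_15, m9_16, m9_17, m9_18]

/-- A generator. -/
noncomputable def g10 : List Nat :=
  [m10_0, m10_1, m10_2, m10_3, m10_4, m10_5, m10_6, m10_7, m10_8, m10_9, m10_10, m10_11, m10_12, m10_13, m10_14, m10_15, m10_16, m10_17, m10_18]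

/-- A generator. -/
noncomputable def g11 : List Nat :=
  [m11_0, m11_1, m11_2, m11_3, m11_4, m11_5, m11_6, m11_7, m11_8, m11_9, m11_10, m11_11, m11_12, m11_13, m11_14, m11_15, m11_16, m11_17, m11_18]

/-- A generator. -/
noncomputable def g12 : List Nat :=
  [m12_0, m12_1, m12_2, m12_3, m12_4, m12_5, m12_6, m12_7, m12_8, m12_9, m12_10, m12_11, m12_12, m12_13, m12_14, m12_15, m12_16, m12_17, m12_18]

/-- A generator. -/
noncomputable def g13 : List Nat :=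
  [m13_0, m13_1, m13_2, m13_3, m13_4, m13_5, m13_6, m13_7, m13_8, m13_9, m13_10, m13_11, m13_12, m13_13, m13_14, m13_15, m13_16, m13_17, m13_18]

/-- A generator. -/
noncomputable def g14 : List Nat :=
  [m14_0, m14_1, m14_2, m14_3, m14_4, m14_5, m14_6, m14_7, m14_8, m14_9, m14_10, m14_11, m14_12, m14_13, m14_14, m14_15, m14_16, m14_17, m14_18]

/-- The generators. -/
noncomputable def nets : List (List Nat) :=
  [g0, g1, g2, g3, g4, g5, g6, g7, g8, g9, g10, g11, g12, g13, g14]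

end Cfsg.Lib.BigPerm.Fi24Net
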